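import Groth.Agent.PotGood27.Main

/-!
# Integral `j` gives potentially good reduction
-/

universe u

set_option autoImplicit false

open IsLocalRing

namespace Groth.Agent.PotGood27

variable (R : Type u) [CommRing R] [IsDomain R] [IsDiscreteValuationRing R] (K : Type u) [Field K] [Algebra R K]
  [IsFractionRing R K] (W : WeierstrassCurve K) [W.IsElliptic]

/-- A model over the algebraic closure is defined over a finite extension. -/
theorem exists_finite_descent (C : WeierstrassCurve.VariableChange (AlgebraicClosure K)) (x : AlgebraicClosure K) :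
    ∃ (L : IntermediateField K (AlgebraicClosure K)) (_ : FiniteDimensional K L)
      (C' : WeierstrassCurve.VariableChange L) (x' : L),
      (x' : AlgebraicClosure K) = x ∧ (C' • W.baseChange L).map (algebraMap L (AlgebraicClosure K)) =
        C • W.baseChange (AlgebraicClosure K) := by
  let S : Set (AlgebraicClosure K) := {(C.u : AlgebraicClosure K), C.r, C.s, C.t, x}
  let L := IntermediateField.adjoin K S
  have hfin : FiniteDimensional K L := by
    haveI : Finite S := Set.Finite.to_subtype (by simp [S])
    exact IntermediateField.finiteDimensional_adjoin fun y _ => Algebra.IsIntegral.isIntegral y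
  have hm : ∀ y ∈ S, y ∈ L := fun y hy => IntermediateField.subset_adjoin K S hy
  let C' : WeierstrassCurve.VariableChange L :=
    ⟨Units.mk0 ⟨C.u, hm _ (by simp [S])⟩ (fun h => C.u.ne_zero (congrArg Subtype.val h)),
      ⟨C.r, hm _ (by simp [S])⟩, ⟨C.s, hm _ (by simp [S])⟩, ⟨C.t, hm _ (by simp [S])⟩⟩
  refine ⟨L, hfin, C', ⟨x, hm _ (by simp [S])⟩, rfl, ?_⟩
  have hC : C'.map (algebraMap L (AlgebraicClosure K)) = C := by
    ext <;> rfl
  rw [← WeierstrassCurve.map_variableChange, hC, WeierstrassCurve.baseChange, WeierstrassCurve.map_map,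
    ← IsScalarTower.algebraMap_eq]
  rfl

/-- Integral `j` implies potentially good reduction. -/
theorem exists_good_of_j_mem (r : R) (hr : algebraMap R K r = W.j) :
    ∃ (L : Type u) (_ : Field L) (_ : Algebra K L) (_ : FiniteDimensional K L) (RL : Type u)
        (_ : CommRing RL) (_ : IsDomain RL) (_ : IsDiscreteValuationRing RL) (_ : Algebra RL L)
        (_ : IsFractionRing RL L) (φ : R →+* RL), IsLocalHom φ ∧
        (∀ r : R, algebraMap K L (algebraMap R K r) = algebraMap RL L (φ r)) ∧
        ((W.baseChange L).minimal RL).HasGoodReduction RL := by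
  haveI : (W.baseChange (AlgebraicClosure K)).IsElliptic :=
    inferInstanceAs (W.map (algebraMap K (AlgebraicClosure K))).IsElliptic
  -- the data of a good normal form
  have main : ∀ (C : WeierstrassCurve.VariableChange (AlgebraicClosure K)) (x : AlgebraicClosure K)
      (N : ∀ {F : Type u} [Field F], F → WeierstrassCurve F),
      (∀ {A B : Type u} [Field A] [Field B] (f : A →+* B) (a : A), (N a).map f = N (f a)) →
      C • W.baseChange (AlgebraicClosure K) = N x →
      (∀ (V L : Type u) [CommRing V] [IsDomain V] [IsDiscreteValuationRing V] [Field L] [Algebra V L]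
        [IsFractionRing V L] (φ : R →+* V) (l : L), algebraMap V L (φ r) * (N l).Δ = (N l).c₄ ^ 3 →
          WeierstrassCurve.IsIntegral V (N l) ∧ ∃ d : V, IsUnit d ∧ algebraMap V L d = (N l).Δ) →
      ∃ (L : Type u) (_ : Field L) (_ : Algebra K L) (_ : FiniteDimensional K L) (RL : Type u)
        (_ : CommRing RL) (_ : IsDomain RL) (_ : IsDiscreteValuationRing RL) (_ : Algebra RL L)
        (_ : IsFractionRing RL L) (φ : R →+* RL), IsLocalHom φ ∧
        (∀ r : R, algebraMap K L (algebraMap R K r) = algebraMap RL L (φ r)) ∧
        ((W.baseChange L).minimal RL).HasGoodReduction RL := by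
    intro C x N hN hCx hgood
    obtain ⟨L, hfin, C', x', hx', hC'⟩ := exists_finite_descent K W C x
    have heq : C' • W.baseChange L = N x' := by
      apply WeierstrassCurve.map_injective (algebraMap L (AlgebraicClosure K)).injective
      show (C' • W.baseChange L).map _ = (N x').map _
      rw [hC', hN, hCx, ← hx']
      rfl
    obtain ⟨RL, iR, iD, iV, iA, iF, φ, hloc, hφ⟩ := exists_dvr_extension R K L
    haveI : (W.baseChange L).IsElliptic := inferInstanceAs (W.map (algebraMap K L)).IsElliptic
    have key : algebraMap RL L (φ r) * (C' • W.baseChange L).Δ = (C' • W.baseChange L).c₄ ^ 3 := by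
      rw [← j_mul_Δ' (C' • W.baseChange L), WeierstrassCurve.variableChange_j, ← hφ, hr]
      congr 1
      exact (WeierstrassCurve.map_j W (algebraMap K L)).symm
    rw [heq] at key
    obtain ⟨hint, hd⟩ := hgood RL L φ x' key
    haveI : WeierstrassCurve.IsIntegral RL (C' • W.baseChange L) := heq ▸ hint
    exact ⟨L, inferInstance, inferInstance, hfin, RL, iR, iD, iV, iA, iF, φ, hloc, hφ,
      hasGoodReduction_minimal RL (W.baseChange L) C' (heq.symm ▸ hd)⟩
  by_cases h2 : IsUnit (2 : R)
  · have h2F : (2 : AlgebraicClosure K) ≠ 0 := by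
      have := (h2.map (algebraMap R K)).map (algebraMap K (AlgebraicClosure K))
      rw [map_ofNat, map_ofNat] at this
      exact this.ne_zero
    obtain ⟨C, l, hCl⟩ := exists_legendre h2F (W.baseChange (AlgebraicClosure K))
    exact main C l (fun {F} _ l => ⟨0, -(1 + l), 0, l, 0⟩)
      (fun f a => by ext <;> simp) hCl
      (fun V L _ _ _ _ _ _ φ l h => legendre_good V (φ r) (by have := h2.map φ; rwa [map_ofNat] at this) l h)
  · have h3 : IsUnit (3 : R) := by
      refine notMem_maximalIdeal.1 fun h => ?_
      refine one_not_mem R ?_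
      rw [show (1 : R) = 3 - 2 by norm_num]
      exact sub_mem h h2
    have h3F : (3 : AlgebraicClosure K) ≠ 0 := by
      have := (h3.map (algebraMap R K)).map (algebraMap K (AlgebraicClosure K))
      rw [map_ofNat, map_ofNat] at this
      exact this.ne_zero
    obtain ⟨C, α, hCα⟩ := exists_deuring h3F (W.baseChange (AlgebraicClosure K))
    exact main C α (fun {F} _ α => ⟨α, 0, 1, 0, 0⟩)
      (fun f a => by ext <;> simp) hCα
      (fun V L _ _ _ _ _ _ φ α h => deuring_good V (φ r) (by have := h3.map φ; rwa [map_ofNat] at this) α h)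

end Groth.Agent.PotGood27
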