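import Groth.Agent.PotGood27.NormalForms
import Groth.Agent.CAlgMisc2.KrullAkizuki
import Mathlib.AlgebraicGeometry.EllipticCurve.Reduction
import Mathlib.FieldTheory.IntermediateField.Adjoin.Basic
import Mathlib.FieldTheory.IsAlgClosed.AlgebraicClosure

/-!
# Integral `j` and potentially good reduction
-/

universe u

set_option autoImplicit false

open IsLocalRing

namespace Groth.Agent.PotGood27

/-- A finite extension of the fraction field of a DVR contains a DVR dominating it, with full fraction field. -/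
theorem exists_dvr_extension (R : Type u) [CommRing R] [IsDomain R] [IsDiscreteValuationRing R] (K L : Type u)
    [Field K] [Algebra R K] [IsFractionRing R K] [Field L] [Algebra K L] [FiniteDimensional K L] :
    ∃ (RL : Type u) (_ : CommRing RL) (_ : IsDomain RL) (_ : IsDiscreteValuationRing RL) (_ : Algebra RL L)
      (_ : IsFractionRing RL L) (φ : R →+* RL), IsLocalHom φ ∧
        (∀ r : R, algebraMap K L (algebraMap R K r) = algebraMap RL L (φ r)) := by
  letI : Algebra R L := ((algebraMap K L).comp (algebraMap R K)).toAlgebra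
  haveI : IsScalarTower R K L := IsScalarTower.of_algebraMap_eq' rfl
  let C := integralClosure R L
  haveI : IsFractionRing C L := IsIntegralClosure.isFractionRing_of_finite_extension R K L C
  haveI : IsNoetherianRing C := CAlgMisc2.isNoetherianRing_of_between (R := R) K L C Subtype.val_injective
  haveI : IsIntegrallyClosed C := integralClosure.isIntegrallyClosedOfFiniteExtension K
  haveI : IsDedekindDomain C := {}
  have hinj : Function.Injective (algebraMap R C) := fun a b h =>
    IsFractionRing.injective R K ((algebraMap K L).injective (congrArg Subtype.val h))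
  haveI : FaithfulSMul R C := (faithfulSMul_iff_algebraMap_injective R C).mpr hinj
  obtain ⟨Q, hQ, hQm⟩ := Ideal.exists_ideal_over_maximal_of_isIntegral (S := C) (maximalIdeal R)
    (by rw [(RingHom.injective_iff_ker_eq_bot _).mp hinj]; exact bot_le)
  have hQ0 : Q ≠ ⊥ := fun h => by
    rw [h, ← RingHom.ker_eq_comap_bot, (RingHom.injective_iff_ker_eq_bot _).mp hinj] at hQm
    exact IsDiscreteValuationRing.not_a_field R hQm.symm
  haveI := hQ.isPrime
  let RL := Localization.AtPrime Q
  haveI : IsDiscreteValuationRing RL := IsLocalization.AtPrime.isDiscreteValuationRing_of_dedekind_domain C hQ0 RL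
  letI : Algebra RL L := (IsLocalization.lift (M := Q.primeCompl) (g := algebraMap C L) fun y => by
    refine Ne.isUnit fun h0 => y.2 ?_
    rw [(IsFractionRing.injective C L (h0.trans (map_zero _).symm) : (y : C) = 0)]
    exact Q.zero_mem).toAlgebra
  haveI : IsScalarTower C RL L := IsScalarTower.of_algebraMap_eq fun x => (IsLocalization.lift_eq _ x).symm
  haveI : IsFractionRing RL L := IsFractionRing.isFractionRing_of_isDomain_of_isLocalization Q.primeCompl RL L
  refine ⟨RL, inferInstance, inferInstance, inferInstance, inferInstance, inferInstance,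
    (algebraMap C RL).comp (algebraMap R C), ⟨fun t ht => ?_⟩, fun r => ?_⟩
  · by_contra hnu
    have hm : algebraMap R C t ∈ Q := by
      have : t ∈ maximalIdeal R := hnu
      rwa [← hQm] at this
    exact (IsLocalization.AtPrime.to_map_mem_maximal_iff RL Q (algebraMap R C t)).mpr hm ht
  · show _ = algebraMap RL L (algebraMap C RL (algebraMap R C r))
    rw [← IsScalarTower.algebraMap_apply C RL L]
    rfl

variable (V : Type u) [CommRing V] [IsDomain V] [IsDiscreteValuationRing V] {L : Type u} [Field L] [Algebra V L]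
  [IsFractionRing V L]

/-- A curve with an integral model of unit discriminant has good reduction. -/
theorem hasGoodReduction_minimal (W : WeierstrassCurve L) (C : WeierstrassCurve.VariableChange L)
    [hC : WeierstrassCurve.IsIntegral V (C • W)] (hΔ : ∃ d : V, IsUnit d ∧ algebraMap V L d = (C • W).Δ) :
    (W.minimal V).HasGoodReduction V := by
  haveI hm : WeierstrassCurve.IsMinimal V (W.minimal V) := inferInstance
  obtain ⟨d, hd, hdΔ⟩ := hΔ
  have hv : IsDedekindDomain.HeightOneSpectrum.valuation L (IsDiscreteValuationRing.maximalIdeal V) (C • W).Δ = 1 := by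
    rw [← hdΔ]
    refine le_antisymm (IsDedekindDomain.HeightOneSpectrum.valuation_le_one _ _) ?_
    rw [← not_lt, IsDedekindDomain.HeightOneSpectrum.valuation_lt_one_iff_mem]
    exact fun h => (IsLocalRing.mem_maximalIdeal _).1 h hd
  obtain ⟨C₀, hC₀⟩ : ∃ C₀ : WeierstrassCurve.VariableChange L, W.minimal V = C₀ • W := ⟨_, rfl⟩
  have heq : (C * C₀⁻¹) • W.minimal V = C • W := by rw [hC₀, ← mul_smul, inv_mul_cancel_right]
  haveI hi : WeierstrassCurve.IsIntegral V ((C * C₀⁻¹) • W.minimal V) := heq.symm ▸ hC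
  have h1 := WeierstrassCurve.valuation_Δ_aux_eq_of_isIntegral V ((C * C₀⁻¹) • W.minimal V)
  rw [heq, hv, ← heq] at h1
  have h0 := WeierstrassCurve.valuation_Δ_aux_eq_of_isIntegral V (W.minimal V)
  have hle : WeierstrassCurve.valuation_Δ_aux V (W.minimal V) ≤
      WeierstrassCurve.valuation_Δ_aux V ((C * C₀⁻¹) • W.minimal V) :=
    Subtype.coe_le_coe.1 (h1.symm ▸ (WeierstrassCurve.valuation_Δ_aux V (W.minimal V)).2)
  have hge := hm.val_Δ_maximal.2 (j := C * C₀⁻¹) hi (by simpa only [one_smul] using hle)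
  simp only [one_smul] at hge
  exact { hm with goodReduction := le_antisymm (h0 ▸ (WeierstrassCurve.valuation_Δ_aux V (W.minimal V)).2) (by have := Subtype.coe_le_coe.2 hge; rwa [h0, h1] at this) }

omit [IsDiscreteValuationRing V] in
theorem exists_of_inv_mem_maximal [ValuationRing V] {x : L} (h : ∀ b : V, ¬ IsUnit b → algebraMap V L b * x = 1 → False) :
    ∃ a : V, algebraMap V L a = x := by
  rcases ValuationRing.isInteger_or_isInteger V x with ⟨a, ha⟩ | ⟨b, hb⟩
  · exact ⟨a, ha⟩
  · by_cases hx : x = 0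
    · exact ⟨0, by rw [hx, map_zero]⟩
    by_cases hu : IsUnit b
    · obtain ⟨v, rfl⟩ := hu
      exact ⟨(↑v⁻¹ : V), by rw [map_units_inv, hb, inv_inv]⟩
    · exact (h b hu (by rw [hb, inv_mul_cancel₀ hx])).elim

theorem not_mem_of_isUnit {x : V} (h : IsUnit x) : x ∉ maximalIdeal V := fun hx => (IsLocalRing.mem_maximalIdeal _).1 hx h

theorem one_not_mem : (1 : V) ∉ maximalIdeal V := not_mem_of_isUnit V isUnit_one

variable (j : V)

/-- The Legendre parameter of a curve with integral `j` is integral and defines good reduction. -/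
theorem legendre_good (h2 : IsUnit (2 : V)) (l : L)
    (hjΔ : algebraMap V L j * (⟨0, -(1 + l), 0, l, 0⟩ : WeierstrassCurve L).Δ =
      (⟨0, -(1 + l), 0, l, 0⟩ : WeierstrassCurve L).c₄ ^ 3) :
    WeierstrassCurve.IsIntegral V (⟨0, -(1 + l), 0, l, 0⟩ : WeierstrassCurve L) ∧
      ∃ d : V, IsUnit d ∧ algebraMap V L d = (⟨0, -(1 + l), 0, l, 0⟩ : WeierstrassCurve L).Δ := by
  set W : WeierstrassCurve L := ⟨0, -(1 + l), 0, l, 0⟩ with hW
  have hc : W.c₄ = 16 * (l ^ 2 - l + 1) := by
    simp only [hW, WeierstrassCurve.c₄, WeierstrassCurve.b₂, WeierstrassCurve.b₄]; ring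
  have hΔ : W.Δ = 16 * (l ^ 2 * (l - 1) ^ 2) := by
    simp only [hW, WeierstrassCurve.Δ, WeierstrassCurve.b₂, WeierstrassCurve.b₄, WeierstrassCurve.b₆, WeierstrassCurve.b₈]; ring
  rw [hc, hΔ] at hjΔ
  have h16 : (16 : V) ∉ maximalIdeal V := not_mem_of_isUnit V (by rw [show (16 : V) = 2 ^ 4 by norm_num]; exact h2.pow 4)
  have hP : (maximalIdeal V).IsPrime := inferInstance
  have hinj := IsFractionRing.injective V L
  obtain ⟨a, ha⟩ := exists_of_inv_mem_maximal V (x := l) (fun b hb hbl => by
    have h' : (16 * (1 - b + b ^ 2)) ^ 3 = j * (16 * (b ^ 2 * (1 - b) ^ 2)) := by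
      apply hinj
      simp only [map_pow, map_mul, map_add, map_sub, map_one, map_ofNat]
      set B := algebraMap V L b
      have e1 : B ^ 2 * (l ^ 2 - l + 1) = 1 - B + B ^ 2 := by linear_combination (B * l + 1 - B) * hbl
      have e2 : B ^ 2 * (l * (l - 1)) = 1 - B := by linear_combination (B * l + 1 - B) * hbl
      rw [← e1, ← e2]
      linear_combination (-B ^ 6) * hjΔ
    have hbm : b ∈ maximalIdeal V := hb
    have hm : (16 * (1 - b + b ^ 2)) ^ 3 ∈ maximalIdeal V := by
      rw [h']
      exact Ideal.mul_mem_left _ _ (Ideal.mul_mem_left _ _ (Ideal.mul_mem_right _ _ (Ideal.pow_mem_of_mem _ hbm 2 two_pos)))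
    rcases hP.mem_or_mem (hP.mem_of_pow_mem _ hm) with h | h
    · exact h16 h
    · apply one_not_mem V
      rw [show (1 : V) = (1 - b + b ^ 2) + b * (1 - b) by ring]
      exact add_mem h (Ideal.mul_mem_right _ _ hbm))
  subst ha
  have hj' : j * (16 * (a ^ 2 * (a - 1) ^ 2)) = (16 * (a ^ 2 - a + 1)) ^ 3 := by
    apply hinj
    simp only [map_pow, map_mul, map_add, map_sub, map_one, map_ofNat]
    exact hjΔ
  have ha : a * (a - 1) ∉ maximalIdeal V := fun h => by
    have hm : (16 * (a ^ 2 - a + 1)) ^ 3 ∈ maximalIdeal V := by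
      rw [← hj', ← mul_pow]
      exact Ideal.mul_mem_left _ _ (Ideal.mul_mem_left _ _ (Ideal.pow_mem_of_mem _ h 2 two_pos))
    rcases hP.mem_or_mem (hP.mem_of_pow_mem _ hm) with h' | h'
    · exact h16 h'
    · apply one_not_mem V
      rw [show (1 : V) = (a ^ 2 - a + 1) - a * (a - 1) by ring]
      exact sub_mem h' h
  refine ⟨WeierstrassCurve.isIntegral_of_exists_lift V ⟨0, map_zero _⟩ ⟨-(1 + a), by simp [W]⟩ ⟨0, map_zero _⟩ ⟨a, rfl⟩ ⟨0, map_zero _⟩,
    16 * (a * (a - 1)) ^ 2, ((notMem_maximalIdeal.1 h16)).mul ((notMem_maximalIdeal.1 ha).pow 2), ?_⟩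
  rw [hΔ]
  simp only [map_pow, map_mul, map_sub, map_one, map_ofNat]
  ring

/-- The Deuring parameter of a curve with integral `j` is integral and defines good reduction. -/
theorem deuring_good (h3 : IsUnit (3 : V)) (α : L)
    (hjΔ : algebraMap V L j * (⟨α, 0, 1, 0, 0⟩ : WeierstrassCurve L).Δ =
      (⟨α, 0, 1, 0, 0⟩ : WeierstrassCurve L).c₄ ^ 3) :
    WeierstrassCurve.IsIntegral V (⟨α, 0, 1, 0, 0⟩ : WeierstrassCurve L) ∧
      ∃ d : V, IsUnit d ∧ algebraMap V L d = (⟨α, 0, 1, 0, 0⟩ : WeierstrassCurve L).Δ := by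
  set W : WeierstrassCurve L := ⟨α, 0, 1, 0, 0⟩ with hW
  have hc : W.c₄ = α * (α ^ 3 - 24) := by
    simp only [hW, WeierstrassCurve.c₄, WeierstrassCurve.b₂, WeierstrassCurve.b₄]; ring
  have hΔ : W.Δ = α ^ 3 - 27 := by
    simp only [hW, WeierstrassCurve.Δ, WeierstrassCurve.b₂, WeierstrassCurve.b₄, WeierstrassCurve.b₆, WeierstrassCurve.b₈]; ring
  rw [hc, hΔ] at hjΔ
  have h3m : (3 : V) ∉ maximalIdeal V := not_mem_of_isUnit V h3
  have hP : (maximalIdeal V).IsPrime := inferInstance
  have hinj := IsFractionRing.injective V L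
  obtain ⟨a, ha⟩ := exists_of_inv_mem_maximal V (x := α) (fun b hb hbl => by
    have h' : (1 - 24 * b ^ 3) ^ 3 = j * (b ^ 9 * (1 - 27 * b ^ 3)) := by
      apply hinj
      simp only [map_pow, map_mul, map_sub, map_one, map_ofNat]
      set B := algebraMap V L b
      have e1 : B ^ 3 * (α ^ 3 - 24) = 1 - 24 * B ^ 3 := by linear_combination ((B * α) ^ 2 + B * α + 1) * hbl
      have e2 : B ^ 3 * (α ^ 3 - 27) = 1 - 27 * B ^ 3 := by linear_combination ((B * α) ^ 2 + B * α + 1) * hbl
      rw [← e1, ← e2]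
      linear_combination (-B ^ 12) * hjΔ + (-B ^ 9 * (α ^ 3 - 24) ^ 3 * ((B * α) ^ 2 + B * α + 1)) * hbl
    have hbm : b ∈ maximalIdeal V := hb
    have hm : (1 - 24 * b ^ 3) ^ 3 ∈ maximalIdeal V := by
      rw [h']
      exact Ideal.mul_mem_left _ _ (Ideal.mul_mem_right _ _ (Ideal.pow_mem_of_mem _ hbm 9 (by norm_num)))
    apply one_not_mem V
    rw [show (1 : V) = (1 - 24 * b ^ 3) + 24 * b ^ 2 * b by ring]
    exact add_mem (hP.mem_of_pow_mem _ hm) (Ideal.mul_mem_left _ _ hbm))
  subst ha
  have hj' : j * (a ^ 3 - 27) = (a * (a ^ 3 - 24)) ^ 3 := by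
    apply hinj
    simp only [map_pow, map_mul, map_sub, map_ofNat]
    exact hjΔ
  have ha : a ^ 3 - 27 ∉ maximalIdeal V := fun h => by
    have hm : (a * (a ^ 3 - 24)) ^ 3 ∈ maximalIdeal V := hj' ▸ Ideal.mul_mem_left _ _ h
    rcases hP.mem_or_mem (hP.mem_of_pow_mem _ hm) with h' | h'
    · refine h3m (hP.mem_of_pow_mem 3 ?_)
      rw [show (3 : V) ^ 3 = a ^ 2 * a - (a ^ 3 - 27) by ring]
      exact sub_mem (Ideal.mul_mem_left _ _ h') h
    · apply h3m
      rw [show (3 : V) = (a ^ 3 - 24) - (a ^ 3 - 27) by ring]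
      exact sub_mem h' h
  exact ⟨WeierstrassCurve.isIntegral_of_exists_lift V ⟨a, rfl⟩ ⟨0, map_zero _⟩ ⟨1, map_one _⟩ ⟨0, map_zero _⟩ ⟨0, map_zero _⟩,
    a ^ 3 - 27, notMem_maximalIdeal.1 ha, by rw [hΔ]; simp only [map_pow, map_sub, map_ofNat]⟩

theorem j_mul_Δ' {F : Type u} [Field F] (W : WeierstrassCurve F) [W.IsElliptic] : W.j * W.Δ = W.c₄ ^ 3 := by
  rw [WeierstrassCurve.j, ← W.coe_Δ', mul_comm, ← mul_assoc, Units.mul_inv, one_mul]

variable (R : Type u) [CommRing R] [IsDomain R] [IsDiscreteValuationRing R] (K : Type u) [Field K] [Algebra R K]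
  [IsFractionRing R K] (W : WeierstrassCurve K) [W.IsElliptic]

/-- Potentially good reduction implies integral `j`. -/
theorem j_mem_of_good (L : Type u) [Field L] [Algebra K L] (RL : Type u) [CommRing RL] [IsDomain RL]
    [IsDiscreteValuationRing RL] [Algebra RL L] [IsFractionRing RL L] (φ : R →+* RL) [IsLocalHom φ]
    (hφ : ∀ r : R, algebraMap K L (algebraMap R K r) = algebraMap RL L (φ r))
    (hg : ((W.baseChange L).minimal RL).HasGoodReduction RL) : ∃ r : R, algebraMap R K r = W.j := by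
  haveI : (W.baseChange L).IsElliptic := inferInstanceAs (W.map (algebraMap K L)).IsElliptic
  obtain ⟨C₀, hC₀⟩ : ∃ C₀ : WeierstrassCurve.VariableChange L,
      (W.baseChange L).minimal RL = C₀ • W.baseChange L := ⟨_, rfl⟩
  haveI := hg.toIsMinimal
  obtain ⟨d, hd⟩ := WeierstrassCurve.Δ_integral_of_isIntegral RL ((W.baseChange L).minimal RL)
  have hdu : IsUnit d := by
    refine notMem_maximalIdeal.1 fun h => ?_
    refine ne_of_lt ?_ hg.goodReduction
    rw [← hd]
    exact (IsDedekindDomain.HeightOneSpectrum.valuation_lt_one_iff_mem (K := L) _ _).2 h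
  obtain ⟨u, rfl⟩ := hdu
  have hc := WeierstrassCurve.integralModel_c₄_eq RL ((W.baseChange L).minimal RL)
  have hj : algebraMap RL L (↑u⁻¹ * (WeierstrassCurve.integralModel RL ((W.baseChange L).minimal RL)).c₄ ^ 3) =
      algebraMap K L W.j := by
    have key : algebraMap K L W.j * ((W.baseChange L).minimal RL).Δ = ((W.baseChange L).minimal RL).c₄ ^ 3 := by
      rw [hC₀, ← j_mul_Δ' (C₀ • W.baseChange L), WeierstrassCurve.variableChange_j]
      congr 1
      exact (WeierstrassCurve.map_j W (algebraMap K L)).symm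
    rw [map_mul, map_pow, hc, ← key, ← hd, mul_left_comm, ← map_mul, Units.inv_mul, map_one, mul_one]
  refine exists_of_inv_mem_maximal R fun b hb hbj => hb (isUnit_of_map_unit φ b ?_)
  refine IsUnit.of_mul_eq_one (↑u⁻¹ * (WeierstrassCurve.integralModel RL ((W.baseChange L).minimal RL)).c₄ ^ 3)
    (IsFractionRing.injective RL L ?_)
  rw [map_mul, hj, ← hφ, ← map_mul, hbj, map_one, map_one]

end Groth.Agent.PotGood27
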