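import Mathlib.AlgebraicGeometry.EllipticCurve.VariableChange
import Mathlib.FieldTheory.IsAlgClosed.Basic
import Mathlib.Tactic.LinearCombination
import Mathlib.Tactic.ComputeDegree

/-!
# Legendre and Deuring normal forms
-/

universe u

set_option autoImplicit false

open Polynomial

namespace Groth.Agent.PotGood27

variable {F : Type u} [Field F] [IsAlgClosed F]

theorem j_mul_Δ (W : WeierstrassCurve F) [W.IsElliptic] : W.j * W.Δ = W.c₄ ^ 3 := by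
  rw [WeierstrassCurve.j, ← W.coe_Δ']
  rw [mul_comm, ← mul_assoc, Units.mul_inv, one_mul]

/-- Legendre normal form. -/
theorem exists_legendre (h2 : (2 : F) ≠ 0) (W : WeierstrassCurve F) [W.IsElliptic] :
    ∃ (C : WeierstrassCurve.VariableChange F) (l : F), C • W = ⟨0, -(1 + l), 0, l, 0⟩ := by
  obtain ⟨r, hr⟩ := IsAlgClosed.exists_root (Polynomial.C 4 * X ^ 3 + Polynomial.C W.b₂ * X ^ 2 + Polynomial.C (2 * W.b₄) * X + Polynomial.C W.b₆) (by
    have h4 : (4 : F) ≠ 0 := by rw [show (4 : F) = 2 * 2 by norm_num]; exact mul_ne_zero h2 h2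
    rw [degree_cubic h4]
    norm_num)
  simp only [IsRoot.def, eval_add, eval_mul, eval_pow, eval_X, eval_C] at hr
  let C₁ : WeierstrassCurve.VariableChange F := ⟨1, r, -W.a₁ / 2, -(W.a₃ + r * W.a₁) / 2⟩
  set W₁ := C₁ • W with hW₁
  have h1 : W₁.a₁ = 0 := by
    rw [hW₁, WeierstrassCurve.variableChange_a₁]
    show (((1 : Fˣ)⁻¹ : Fˣ) : F) * _ = 0
    rw [inv_one, Units.val_one, one_mul]
    show W.a₁ + 2 * (-W.a₁ / 2) = 0
    rw [mul_div_cancel₀ _ h2]; ring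
  have h3 : W₁.a₃ = 0 := by
    rw [hW₁, WeierstrassCurve.variableChange_a₃]
    show (((1 : Fˣ)⁻¹ : Fˣ) : F) ^ 3 * _ = 0
    rw [inv_one, Units.val_one, one_pow, one_mul]
    show W.a₃ + r * W.a₁ + 2 * (-(W.a₃ + r * W.a₁) / 2) = 0
    rw [mul_div_cancel₀ _ h2]; ring
  have h6 : W₁.a₆ = 0 := by
    have hb : W₁.b₆ = 0 := by
      rw [hW₁, WeierstrassCurve.variableChange_b₆]
      show (((1 : Fˣ)⁻¹ : Fˣ) : F) ^ 6 * _ = 0
      rw [inv_one, Units.val_one, one_pow, one_mul]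
      show W.b₆ + 2 * r * W.b₄ + r ^ 2 * W.b₂ + 4 * r ^ 3 = 0
      linear_combination hr
    rw [WeierstrassCurve.b₆, h3] at hb
    have h4 : (4 : F) ≠ 0 := by rw [show (4 : F) = 2 * 2 by norm_num]; exact mul_ne_zero h2 h2
    exact (mul_eq_zero.1 (by linear_combination hb : (4 : F) * W₁.a₆ = 0)).resolve_left h4
  haveI : W₁.IsElliptic := hW₁ ▸ inferInstance
  have hΔ : W₁.Δ ≠ 0 := W₁.isUnit_Δ.ne_zero
  obtain ⟨e, he⟩ := IsAlgClosed.exists_root (Polynomial.C 1 * X ^ 2 + Polynomial.C W₁.a₂ * X + Polynomial.C W₁.a₄) (by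
    rw [degree_quadratic one_ne_zero]; norm_num)
  simp only [IsRoot.def, eval_add, eval_mul, eval_pow, eval_X, eval_C, one_mul] at he
  have he0 : e ≠ 0 := by
    rintro rfl
    have h4 : W₁.a₄ = 0 := by linear_combination he
    apply hΔ
    simp only [WeierstrassCurve.Δ, WeierstrassCurve.b₂, WeierstrassCurve.b₄, WeierstrassCurve.b₆, WeierstrassCurve.b₈, h1, h3, h6, h4]
    ring
  obtain ⟨v, hv⟩ := IsAlgClosed.exists_pow_nat_eq e (n := 2) two_pos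
  have hv0 : v ≠ 0 := fun h0 => he0 (by rw [← hv, h0]; ring)
  refine ⟨(⟨Units.mk0 v hv0, 0, 0, 0⟩ : WeierstrassCurve.VariableChange F) * C₁, W₁.a₄ / e ^ 2, ?_⟩
  rw [mul_smul, ← hW₁]
  ext <;> simp only [WeierstrassCurve.variableChange_def, Units.val_inv_eq_inv_val, Units.val_mk0, h1, h3, h6]
  · ring
  · rw [← hv] at he ⊢
    field_simp
    linear_combination he
  · ring
  · rw [← hv]; field_simp; ring
  · ring

/-- Deuring normal form. -/
theorem exists_deuring (h3 : (3 : F) ≠ 0) (W : WeierstrassCurve F) [W.IsElliptic] :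
    ∃ (C : WeierstrassCurve.VariableChange F) (α : F), C • W = ⟨α, 0, 1, 0, 0⟩ := by
  obtain ⟨r, hr⟩ := IsAlgClosed.exists_root (Polynomial.C 3 * X ^ 4 + Polynomial.C W.b₂ * X ^ 3 + Polynomial.C (3 * W.b₄) * X ^ 2 + Polynomial.C (3 * W.b₆) * X + Polynomial.C W.b₈) (by
    have : (Polynomial.C 3 * X ^ 4 + Polynomial.C W.b₂ * X ^ 3 + Polynomial.C (3 * W.b₄) * X ^ 2 + Polynomial.C (3 * W.b₆) * X + Polynomial.C W.b₈ : F[X]).degree = 4 := by
      compute_degree!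
    rw [this]; norm_num)
  simp only [IsRoot.def, eval_add, eval_mul, eval_pow, eval_X, eval_C] at hr
  obtain ⟨t, ht⟩ := IsAlgClosed.exists_root (Polynomial.C 1 * X ^ 2 + Polynomial.C (W.a₃ + r * W.a₁) * X + Polynomial.C (-(W.a₆ + r * W.a₄ + r ^ 2 * W.a₂ + r ^ 3))) (by
    rw [degree_quadratic one_ne_zero]; norm_num)
  simp only [IsRoot.def, eval_add, eval_mul, eval_pow, eval_X, eval_C, one_mul] at ht
  let C₁ : WeierstrassCurve.VariableChange F := ⟨1, r, 0, t⟩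
  set W₁ := C₁ • W with hW₁
  have h6 : W₁.a₆ = 0 := by
    rw [hW₁, WeierstrassCurve.variableChange_a₆]
    show (((1 : Fˣ)⁻¹ : Fˣ) : F) ^ 6 * _ = 0
    rw [inv_one, Units.val_one, one_pow, one_mul]
    show W.a₆ + r * W.a₄ + r ^ 2 * W.a₂ + r ^ 3 - t * W.a₃ - t ^ 2 - r * t * W.a₁ = 0
    linear_combination -ht
  have h8 : W₁.b₈ = 0 := by
    rw [hW₁, WeierstrassCurve.variableChange_b₈]
    show (((1 : Fˣ)⁻¹ : Fˣ) : F) ^ 8 * _ = 0
    rw [inv_one, Units.val_one, one_pow, one_mul]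
    show W.b₈ + 3 * r * W.b₆ + 3 * r ^ 2 * W.b₄ + r ^ 3 * W.b₂ + 3 * r ^ 4 = 0
    linear_combination hr
  haveI : W₁.IsElliptic := hW₁ ▸ inferInstance
  have hΔ : W₁.Δ ≠ 0 := W₁.isUnit_Δ.ne_zero
  have ha3 : W₁.a₃ ≠ 0 := by
    intro h0
    apply hΔ
    have h4 : W₁.a₄ = 0 := by
      rw [WeierstrassCurve.b₈, h6, h0] at h8
      exact pow_eq_zero_iff two_ne_zero |>.1 (by linear_combination -h8 : W₁.a₄ ^ 2 = 0)
    simp only [WeierstrassCurve.Δ, WeierstrassCurve.b₂, WeierstrassCurve.b₄, WeierstrassCurve.b₆, WeierstrassCurve.b₈, h0, h4, h6]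
    ring
  let C₂ : WeierstrassCurve.VariableChange F := ⟨1, 0, W₁.a₄ / W₁.a₃, 0⟩
  set W₂ := C₂ • W₁ with hW₂
  have g4 : W₂.a₄ = 0 := by
    rw [hW₂, WeierstrassCurve.variableChange_a₄]
    show (((1 : Fˣ)⁻¹ : Fˣ) : F) ^ 4 * (W₁.a₄ - W₁.a₄ / W₁.a₃ * W₁.a₃ + 2 * 0 * W₁.a₂ - (0 + 0 * (W₁.a₄ / W₁.a₃)) * W₁.a₁ + 3 * 0 ^ 2 - 2 * (W₁.a₄ / W₁.a₃) * 0) = 0
    rw [div_mul_cancel₀ _ ha3]
    ring
  have g6 : W₂.a₆ = 0 := by
    rw [hW₂, WeierstrassCurve.variableChange_a₆]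
    simp only [C₂, h6]
    ring
  have g3 : W₂.a₃ = W₁.a₃ := by
    rw [hW₂, WeierstrassCurve.variableChange_a₃]
    simp only [C₂, inv_one, Units.val_one]
    ring
  have g8 : W₂.b₈ = 0 := by
    rw [hW₂, WeierstrassCurve.variableChange_b₈]
    simp only [C₂, h8]
    ring
  have g2 : W₂.a₂ = 0 := by
    rw [WeierstrassCurve.b₈, g4, g6] at g8
    have : W₂.a₂ * W₂.a₃ ^ 2 = 0 := by linear_combination g8
    exact (mul_eq_zero.1 this).resolve_right (pow_ne_zero _ (g3 ▸ ha3))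
  obtain ⟨v, hv⟩ := IsAlgClosed.exists_pow_nat_eq W₁.a₃ (n := 3) (by norm_num)
  have hv0 : v ≠ 0 := fun h0 => ha3 (by rw [← hv, h0]; ring)
  refine ⟨(⟨Units.mk0 v hv0, 0, 0, 0⟩ : WeierstrassCurve.VariableChange F) * C₂ * C₁, W₂.a₁ / v, ?_⟩
  rw [mul_smul, mul_smul, ← hW₁, ← hW₂]
  ext <;> simp only [WeierstrassCurve.variableChange_def, Units.val_inv_eq_inv_val, Units.val_mk0, g2, g3, g4, g6]
  · rw [div_eq_inv_mul]; ring
  · ring
  · rw [← hv]; field_simp; ring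
  · ring
  · ring

end Groth.Agent.PotGood27
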